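import Groth.Agent.Lib.RegImmComp29.Basic
import Groth.Agent.Lib.RegSeqLoc.BaseChange
import Groth.Agent.Lib.RegDesc3.Scheme
import Groth.Agent.Lib.QuasiFlat.Immersion

/-!
# Regular immersions: flat base change and fppf descent (kinds Koszul, H_1, quasi)
-/

universe u

open CategoryTheory Limits AlgebraicGeometry TopologicalSpace

namespace GrothLib.RegImmFlat29

open GrothLib.RegImmComp29 GrothLib.RegSeqLoc

variable {k : RegImm.Kind}

theorem flatStable (hk : k ≠ .regular) : FlatStable (QS.{u} k) := by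
  cases k with
  | regular => exact absurd rfl hk
  | koszul =>
    intro R S _ _ φ hφ rs h
    exact GrothLib.KoszulColon.isKoszulRegularSeq_map φ hφ rs h
  | h1 => exact flatStable_h1
  | quasi => exact flatStable_quasi

/-- Flat base change of regular immersions. -/
theorem isRegularImmersion_baseChange (hk : k ≠ .regular) {X Y X' Y' : Scheme.{u}} {i : Y ⟶ X} {g : X' ⟶ X}
    [Flat g] {i' : Y' ⟶ X'} {g' : Y' ⟶ Y} (hsq : IsPullback g' i' i g)
    (hi : RegImm.IsRegularImmersion k i) : RegImm.IsRegularImmersion k i' := by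
  haveI : IsImmersion i := hi.1
  refine ⟨MorphismProperty.of_isPullback hsq hi.1, fun y' => ?_⟩
  obtain ⟨U, hzU, hci, rs, hrs, hI⟩ := hi.2 (g' y')
  exact exists_equations_of_isPullback hsq U hci rs hI
    (fun R _ l => k.Seq R l)
    (fun R S _ _ φ l hφ hl _ => flatStable hk φ hφ l hl) hrs y' hzU

/-- Regularity may be checked on the opens of a covering of the target. -/
theorem isRegularImmersion_of_restrict {X Z : Scheme.{u}} (i : Z ⟶ X) [IsImmersion i]
    (h : ∀ z : Z, ∃ O : X.Opens, i z ∈ O ∧ RegImm.IsRegularImmersion k (i ∣_ O)) :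
    RegImm.IsRegularImmersion k i := by
  refine ⟨‹_›, fun z => ?_⟩
  obtain ⟨O, hz, -, hO⟩ := h z
  obtain ⟨U, hzU, hci, rs, hr, hI⟩ := hO ⟨z, hz⟩
  refine ⟨⟨O.ι ''ᵁ U.1, U.2.image_of_isOpenImmersion O.ι⟩, ⟨_, hzU, ?_⟩, ?_, rs, hr, ?_⟩
  · exact congrArg (fun f : (i ⁻¹ᵁ O).toScheme ⟶ X => f ⟨z, hz⟩) (morphismRestrict_ι i O)
  · rwa [MorphismProperty.arrow_mk_iso_iff @IsClosedImmersion (morphismRestrictRestrict i O _)] at hci
  · rw [← ker_app_morphismRestrict]
    exact hI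

/-- Regularity of an immersion descends along flat surjective morphisms locally of finite presentation. -/
theorem isRegularImmersion_of_fppf (hk : k ≠ .regular) {Z X X' Z' : Scheme.{u}} {i : Z ⟶ X} {c : X' ⟶ X}
    [Flat c] [Surjective c] [LocallyOfFinitePresentation c] {i' : Z' ⟶ X'} {c' : Z' ⟶ Z}
    (hsq : IsPullback c' i' i c) (h : RegImm.IsRegularImmersion k i') :
    RegImm.IsRegularImmersion k i := by
  haveI := GrothLib.QuasiFlat.descendsAlong_immersion_fppf.{u}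
  haveI : IsImmersion i := MorphismProperty.of_isPullback_of_descendsAlong
    (Q := (@Surjective ⊓ @Flat ⊓ @LocallyOfFinitePresentation : MorphismProperty Scheme.{u}))
    (P := @IsImmersion) hsq.flip ⟨⟨inferInstance, inferInstance⟩, inferInstance⟩ h.1
  refine isRegularImmersion_of_restrict i fun z => ?_
  obtain ⟨_, ⟨(A : X.Opens), hA, rfl⟩, hzA, -⟩ :=
    X.isBasis_affineOpens.exists_subset_of_mem_open (Set.mem_univ (i z)) isOpen_univ
  obtain ⟨v, hv⟩ := c.surjective (i z)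
  obtain ⟨_, ⟨(B : X'.Opens), hB, rfl⟩, hvB, hBA⟩ :=
    X'.isBasis_affineOpens.exists_subset_of_mem_open (show v ∈ c ⁻¹ᵁ A by show c v ∈ A; rw [hv]; exact hzA)
      (c ⁻¹ᵁ A).2
  let O : X.Opens := ⟨c '' (B : Set X'), c.isOpenMap _ B.2⟩
  have hBO : B ≤ c ⁻¹ᵁ O := fun b hb => ⟨b, hb, rfl⟩
  have hOA : O ≤ A := by rintro _ ⟨b, hb, rfl⟩; exact hBA hb
  refine ⟨O, ⟨v, hvB, hv⟩, ?_⟩
  let d : B.toScheme ⟶ O.toScheme := c.resLE O B hBO
  have hd : d ≫ O.ι = B.ι ≫ c := Scheme.Hom.resLE_comp_ι c hBO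
  haveI : Flat d := by
    haveI : Flat (c ∣_ O) := IsZariskiLocalAtTarget.restrict ‹_› _
    change Flat (X'.homOfLE hBO ≫ (c ∣_ O))
    infer_instance
  haveI : Surjective d := ⟨fun o => by
    obtain ⟨b, hb, hbo⟩ := o.2
    refine ⟨⟨b, hb⟩, Subtype.ext ?_⟩
    exact (congrArg (fun f : B.toScheme ⟶ X => f ⟨b, hb⟩) hd).trans hbo⟩
  haveI : IsAffine A.toScheme := hA
  haveI : IsAffine B.toScheme := hB
  haveI : QuasiCompact d := by
    haveI : QuasiCompact (d ≫ X.homOfLE hOA) := inferInstance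
    exact QuasiCompact.of_comp d (X.homOfLE hOA)
  refine GrothLib.RegDesc3.main (i ∣_ O) d hk ?_
  have sq₁ := ((IsPullback.of_hasPullback (i ∣_ O) d).flip.paste_vert (isPullback_morphismRestrict i O)).flip
  rw [hd] at sq₁
  let l := hsq.lift (pullback.fst (i ∣_ O) d ≫ (i ⁻¹ᵁ O).ι) (pullback.snd (i ∣_ O) d ≫ B.ι)
    (sq₁.w.trans (Category.assoc _ _ _).symm)
  have sq₂ : IsPullback l (pullback.snd (i ∣_ O) d) i' B.ι :=
    IsPullback.of_right (by rw [hsq.lift_fst]; exact sq₁) (hsq.lift_snd _ _ _) hsq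
  exact isRegularImmersion_baseChange hk sq₂ h

end GrothLib.RegImmFlat29
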